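import Groth.Agent.L20.RG.FlatOpenFp
import Groth.Agent.L20.RG.FreeNhd
import Groth.Agent.L20.RG.Transfer
import Groth.Prelude.Def_FlatCA
import Mathlib.RingTheory.FinitePresentation

/-!
The flat locus of a finite module over an algebra of finite type over a ring with finitely many weakly
associated primes.
-/

set_option autoImplicit false
set_option linter.style.haveILetI false
universe u

namespace Groth.L16.FlatLocusFT

theorem exists_flat_relFP_away {R S : Type u} [CommRing R] [CommRing S] [Algebra R S] [Algebra.FiniteType R S]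
    (hR : (FlatCA.weakAss R R).Finite)
    (N : Type u) [AddCommGroup N] [Module S N] [Module R N] [IsScalarTower R S N] [Module.Finite S N]
    (q : Ideal S) [q.IsPrime] (hflat : FlatCA.FlatAt R q N) :
    ∃ g : S, g ∉ q ∧ Module.Flat R (LocalizedModule (Submonoid.powers g) N) ∧
      FlatCA.RelFinitePresentation R (Localization.Away g) (LocalizedModule (Submonoid.powers g) N) := by
  classical
  obtain ⟨k, φ, hφ⟩ := Algebra.FiniteType.iff_quotient_mvPolynomial''.mp (inferInstance : Algebra.FiniteType R S)
  let P := MvPolynomial (Fin k) R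
  letI : Algebra P S := φ.toRingHom.toAlgebra
  haveI : IsScalarTower R P S := IsScalarTower.of_algebraMap_eq' φ.comp_algebraMap.symm
  letI : Module P N := Module.compHom N (algebraMap P S)
  haveI : IsScalarTower P S N := IsScalarTower.of_algebraMap_smul fun _ _ => rfl
  haveI : IsScalarTower R P N := IsScalarTower.of_algebraMap_smul fun r m => by
    show algebraMap P S (algebraMap R P r) • m = r • m
    rw [← IsScalarTower.algebraMap_apply, algebraMap_smul]
  haveI : Module.Finite P S := Module.Finite.of_surjective (Algebra.linearMap P S) hφ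
  haveI : Module.Finite P N := Module.Finite.trans S N
  obtain ⟨g₀, hg₀, hfp, hfl⟩ := Groth.L20.RG.exists_fp_flat_away (R := R) (S := P) hR N
    (q.comap (algebraMap P S)) ((Groth.L20.RG.flatAt_iff_of_surjective hφ N q).mpr hflat)
  let g : S := φ g₀
  refine ⟨g, hg₀, (Groth.L20.RG.flat_localized_iff_of_surjective (R := R) (Submonoid.powers g₀)
    (Submonoid.powers g) (Submonoid.map_powers (algebraMap P S) g₀).symm).mp hfl, ?_⟩
  let Sg := Localization.Away g
  let Ng := LocalizedModule (Submonoid.powers g) N
  let T := Localization.Away g₀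
  let f : N →ₗ[P] Ng := (LocalizedModule.mkLinearMap (Submonoid.powers g) N).restrictScalars P
  have hsm : ∀ (a : P) (y : Ng), a • y = φ a • y := fun a y => (algebraMap_smul S a y).symm
  have hpow : ∀ s : Submonoid.powers g₀, φ s.1 ∈ Submonoid.powers g := by
    rintro ⟨_, n, rfl⟩
    exact ⟨n, (map_pow φ g₀ n).symm⟩
  haveI : IsLocalizedModule (Submonoid.powers g₀) f :=
    { map_units := fun s => by
        have h := IsLocalizedModule.map_units (LocalizedModule.mkLinearMap (Submonoid.powers g) N) ⟨_, hpow s⟩
        rw [Module.End.isUnit_iff] at h ⊢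
        convert h using 1
        funext y
        exact hsm _ y
      surj := fun y => by
        obtain ⟨⟨x, ⟨_, n, rfl⟩⟩, h⟩ :=
          IsLocalizedModule.surj (Submonoid.powers g) (LocalizedModule.mkLinearMap (Submonoid.powers g) N) y
        refine ⟨⟨x, ⟨g₀ ^ n, n, rfl⟩⟩, ?_⟩
        show (g₀ ^ n) • y = f x
        rw [hsm, map_pow]
        exact h
      exists_of_eq := fun {x₁ x₂} h => by
        obtain ⟨⟨_, n, rfl⟩, hc⟩ := IsLocalizedModule.exists_of_eq (S := Submonoid.powers g)
          (f := LocalizedModule.mkLinearMap (Submonoid.powers g) N) h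
        refine ⟨⟨g₀ ^ n, n, rfl⟩, ?_⟩
        show φ (g₀ ^ n) • x₁ = φ (g₀ ^ n) • x₂
        rw [map_pow]
        exact hc }
  let e := IsLocalizedModule.iso (Submonoid.powers g₀) f
  let ψ : T →+* Sg := IsLocalization.Away.lift g₀ (g := (algebraMap S Sg).comp φ.toRingHom)
    (IsLocalization.Away.algebraMap_isUnit g)
  have hψ : ∀ a : P, ψ (algebraMap P T a) = algebraMap S Sg (φ a) := fun a => IsLocalization.Away.lift_eq _ _ a
  letI : Module T Ng := Module.compHom Ng ψ
  haveI : IsScalarTower P T Ng := IsScalarTower.of_algebraMap_smul fun a y => by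
    show ψ (algebraMap P T a) • y = a • y
    rw [hψ, hsm, algebraMap_smul]
  let eT : LocalizedModule (Submonoid.powers g₀) N ≃ₗ[T] Ng :=
    e.extendScalarsOfIsLocalization (Submonoid.powers g₀) T
  haveI : Module.FinitePresentation T Ng := Module.FinitePresentation.of_equiv eT
  haveI : Algebra.FinitePresentation R T := by
    haveI : Algebra.FinitePresentation P T := IsLocalization.Away.finitePresentation g₀
    exact Algebra.FinitePresentation.trans R P T
  haveI : IsScalarTower R P T := inferInstance
  have hT : Algebra.FiniteType R T := inferInstance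
  obtain ⟨n, π, hπ⟩ := Algebra.FiniteType.iff_quotient_mvPolynomial''.mp hT
  let ψR : T →ₐ[R] Sg :=
    { ψ with
      commutes' := fun r => by
        show ψ (algebraMap R T r) = algebraMap R Sg r
        rw [IsScalarTower.algebraMap_apply R P T, hψ, φ.commutes, ← IsScalarTower.algebraMap_apply] }
  refine ⟨n, ψR.comp π, ?_, ?_⟩
  · refine Function.Surjective.comp (g := ψ) (fun z => ?_) hπ
    obtain ⟨⟨s, ⟨_, m, rfl⟩⟩, hz⟩ := IsLocalization.surj (Submonoid.powers g) z
    obtain ⟨a, rfl⟩ := hφ s
    refine ⟨IsLocalization.mk' T a (⟨g₀ ^ m, m, rfl⟩ : Submonoid.powers g₀), ?_⟩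
    have h := congrArg ψ (IsLocalization.mk'_spec T a (⟨g₀ ^ m, m, rfl⟩ : Submonoid.powers g₀))
    rw [map_mul, hψ, hψ, map_pow φ] at h
    refine (IsUnit.mul_left_inj ?_).1 (h.trans hz.symm)
    rw [map_pow]
    exact (IsLocalization.Away.algebraMap_isUnit g).pow m
  · let P' := MvPolynomial (Fin n) R
    letI : Algebra P' T := π.toRingHom.toAlgebra
    haveI : Module.FinitePresentation P' T :=
      Module.finitePresentation_of_surjective (Algebra.linearMap P' T) hπ
        (Algebra.FinitePresentation.ker_fG_of_surjective π hπ)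
    letI : Module P' Ng := Module.compHom Ng (ψR.comp π).toRingHom
    haveI : IsScalarTower P' T Ng := IsScalarTower.of_algebraMap_smul fun _ _ => rfl
    exact Module.FinitePresentation.trans P' Ng T

end Groth.L16.FlatLocusFT
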